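import Mathlib
import Groth.Agent.Lib.Helper19.CancelLib

/-!
# Composition and cancellation with three properties (helper19)

`P`-functor followed by `Q`-functor is an `R`-functor as soon as this holds for morphisms of algebraic
spaces.
-/

set_option autoImplicit false
set_option backward.isDefEq.respectTransparency false

universe w₄ v₄ w₃ v₃ w' v' w v u

open CategoryTheory CategoryTheory.Limits Functor AlgebraicGeometry Opposite

namespace Groth.Agent.Helper19.QADiag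

open FibCat AlgSt Stk Groth.Agent.Helper19.FibLib Groth.Agent.Helper19.StLib Groth.Agent.Helper19.PshLib
  Groth.Agent.Helper19.PshSt Groth.Agent.Helper19.DiagLib Groth.Agent.Helper19.DiagAlgSp
  Groth.Agent.Helper19.DiagFib Groth.Agent.Helper19.CompLib Groth.Agent.Helper19.AlgP
  Groth.Agent.Helper19.DiagRep Groth.Agent.Helper19.DiagComp Groth.Agent.Helper19.CancelLib

variable {S : Scheme.{u}}

/-- a composition rule among algebraic spaces. -/
def CompRule (P Q R : MorphismProperty (AlgSp.Sp S)) : Prop :=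
  ∀ ⦃X Y Z : AlgSp.Sp S⦄, AlgSp.IsAlgSpace X → AlgSp.IsAlgSpace Y → AlgSp.IsAlgSpace Z →
      ∀ (a : X ⟶ Y) (b : Y ⟶ Z), P a → Q b → R (a ≫ b)

/-- Functors representable by algebraic spaces compose, with three properties. -/
theorem repByAlgSpWith_comp3 {P Q R : MorphismProperty (AlgSp.Sp S)} (hPb : StableAlg P)
    (hP : DescAtlas P) (hR : CompRule P Q R) {𝒳 𝒴 𝒵 : AlgSt.Cat S} (h𝒳 : IsFibGrpd 𝒳.p)
    (h𝒴 : IsFibGrpd 𝒴.p) (f : 𝒳 ⥤ᵇ 𝒴) (g : 𝒴 ⥤ᵇ 𝒵) (hf : RepByAlgSpWith P f)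
    (hg : RepByAlgSpWith Q g) : RepByAlgSpWith R (BasedFunctor.comp f g) := by
  intro T t
  obtain ⟨A, eA, heA, hα⟩ := hg T t
  obtain ⟨B, eB, β, heB, ⟨θ⟩, hβ⟩ :=
    exists_rep_fp_of_space hPb hP h𝒳 h𝒴 f hf A (BasedFunctor.comp eA (fpSnd t g))
  refine ⟨B, BasedFunctor.comp eB (BasedFunctor.comp (fpPre eA (fpSnd t g) f) (pasteRInv t g f)),
    IsEquivOver.comp heB (IsEquivOver.comp (isEquivOver_fpPre eA heA (fpSnd t g) f)
      (isEquivOver_pasteRInv t g f)), ?_⟩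
  have e1 : spMapOfOver (BasedFunctor.comp (BasedFunctor.comp eB
      (BasedFunctor.comp (fpPre eA (fpSnd t g) f) (pasteRInv t g f))) (fpFst t (BasedFunctor.comp f g))) =
      spMapOfOver (BasedFunctor.comp (ofSpMap β) (BasedFunctor.comp eA (fpFst t g))) :=
    spMapOfOver_eq_of_iso (whiskerRightIso θ (BasedFunctor.comp eA (fpFst t g)))
  rw [e1, spMapOfOver_ofSpMap_comp]
  exact hR B.property A.property (AlgSp.IsAlgSpace.yon_obj T) β _ hβ hα

/-- if `a ⋙ b` has `Q` and the diagonal of `b` has `P`, then `a` has `R`. -/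
theorem repByAlgSpWith_of_comp3 {P Q R : MorphismProperty (AlgSp.Sp S)} (hPb : StableAlg P)
    (hP : DescAtlas P) (hR : CompRule P Q R) {𝒳 𝒴 𝒵 : AlgSt.Cat S} (h𝒳 : IsFibGrpd 𝒳.p)
    (h𝒴 : IsFibGrpd 𝒴.p) (h𝒵 : IsFibGrpd 𝒵.p) (a : 𝒳 ⥤ᵇ 𝒴) (b : 𝒴 ⥤ᵇ 𝒵)
    (hab : RepByAlgSpWith Q (BasedFunctor.comp a b)) (hΔ : RepByAlgSpWith P (diag b)) :
    RepByAlgSpWith R a := by
  have hΓ := repByAlgSpWith_graph (BasedFunctor.comp a b) b a (Iso.refl _) hΔ
  have hsnd := repByAlgSpWith_fpSnd (BasedFunctor.comp a b) b hab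
  have hfp : IsFibGrpd (fp (BasedFunctor.comp a b) b).p := Groth.Agent.S6401.result _ _ h𝒳 h𝒴 h𝒵
  exact repByAlgSpWith_comp3 hPb hP hR h𝒳 hfp _ _ hΓ hsnd

end Groth.Agent.Helper19.QADiag
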