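import Mathlib
import Groth.Agent.Lib.Helper19.WNA.Main
import Groth.Agent.Lib.Helper15.NormZmt
import Groth.Agent.Lib.Helper15.AlgSpUnram

/-!
# A Deligne–Mumford stack with separated quasi-compact diagonal has quasi-affine diagonal (helper19)
-/

set_option autoImplicit false
set_option backward.isDefEq.respectTransparency false

universe u

open CategoryTheory CategoryTheory.Limits AlgebraicGeometry Opposite

namespace Groth.Agent.Helper19.QADiag

open FibCat AlgSt Stk Groth.Agent.Helper19.FibLib Groth.Agent.Helper19.StLib Groth.Agent.Helper19.PshLib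
  Groth.Agent.Helper19.PshSt Groth.Agent.Helper19.DiagLib Groth.Agent.Helper19.CancelLib
  Groth.Agent.Helper19.SpProps Groth.Agent.Helper19.DiagRep Groth.Agent.Helper19.ChartOver
  Groth.Agent.Helper19.InfLib Groth.Agent.Helper19.DiagAlgSp

variable {S : Scheme.{u}}

theorem etale_le_flat : (@Etale : MorphismProperty Scheme.{u}) ≤ @Flat := fun _ _ f hf => by
  haveI : Etale f := hf
  infer_instance

theorem etale_le_lfp : (@Etale : MorphismProperty Scheme.{u}) ≤ @LocallyOfFinitePresentation :=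
  fun _ _ f hf => by
    haveI : Etale f := hf
    infer_instance

/-- S16828. -/
theorem qa_diag_of_isDM (𝒳 : AlgSt.Cat S) (h𝒳 : AlgSt.IsDM Scheme.etalePrecoverage 𝒳)
    (hsep : RepByAlgSpWith AlgSp.IsSeparatedMor (FibCat.diag (toSelf 𝒳)))
    (hqc : RepByAlgSpWith AlgSp.IsQuasiCompactMor (FibCat.diag (toSelf 𝒳))) :
    RepByAlgSpWith AlgSp.IsQuasiAffineMor (FibCat.diag (toSelf 𝒳)) := by
  obtain ⟨halg, U, x, hx₁, hx₂⟩ := h𝒳
  have hf𝒳 : IsFibGrpd 𝒳.p := halg.isStack.1
  have het : RepByAlgSpWith (AlgSp.LocP @Etale) x :=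
    repByAlgSpWith_mono (fun A T a h =>
      Groth.Agent.Helper15.locP_etale_of_isEtaleMor (AlgSp.IsAlgSpace.yon_obj T) a h) hx₁
  have hflat : RepByAlgSpWith (AlgSp.LocP @Flat) x :=
    repByAlgSpWith_mono (fun A T a h => Groth.Agent.Helper15.locP_mono etale_le_flat h) het
  have hlfp : RepByAlgSpWith (AlgSp.LocP @LocallyOfFinitePresentation) x :=
    repByAlgSpWith_mono (fun A T a h => Groth.Agent.Helper15.locP_mono etale_le_lfp h) het
  have hlqf : RepByAlgSpWith (AlgSp.LocP (@LocallyQuasiFinite ⊓ @LocallyOfFiniteType)) x :=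
    repByAlgSpWith_mono (fun A T a h =>
      Groth.Agent.Helper15.locP_mono Groth.Agent.Helper19.WNA.etale_le_lqf_lft h) het
  have hΔlqf : RepByAlgSpWith (AlgSp.LocP (@LocallyQuasiFinite ⊓ @LocallyOfFiniteType))
      (FibCat.diag (toSelf 𝒳)) :=
    Groth.Agent.Helper19.ProdCover.repByAlgSpWith_diag_of_atlas
      (stableAlg_locP Groth.Agent.Helper15.goodP_lqf_lft Groth.Agent.Helper16.AS.srcEtLoc_lqf_lft)
      (compAlg_locP Groth.Agent.Helper15.goodP_lqf_lft Groth.Agent.Helper16.AS.srcEtLoc_lqf_lft)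
      Groth.Agent.Helper19.DiagCover.isLocalOnBase_fppf_lqf_lft
      hf𝒳 (isFibGrpd_selfOver (Over S)) (isFibGrpd_overCat U) (toSelf 𝒳) halg.diag x
      (Groth.Agent.Helper19.DescCover.repByAlgSpWith_fppfP x hflat hlfp hx₂) hlqf
      (repByAlgSpWith_diag sectionEq_quasiDM _
        (Groth.Agent.Helper19.ProdCover.repByAlgSp1_to_selfOver (repByAlgSp_overCat U) _))
  have h3 := repByAlgSpWith_inf stableAlg_isQuasiCompactMor
    (repByAlgSpWith_inf stableAlg_isSeparatedMor hΔlqf hsep) hqc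
  exact repByAlgSpWith_mono (fun A T a h =>
    Groth.Agent.Helper15.Norm.isQuasiAffineMor_of_lqf_separated A.property
      (AlgSp.IsAlgSpace.yon_obj T) a h.1.1 h.2 h.1.2) h3

end Groth.Agent.Helper19.QADiag
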