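import Mathlib
import Groth.Agent.Lib.Helper19.DescCover

/-!
# Descent of properties of functors representable by algebraic spaces along a jointly covering family
of fppf functors to the target (helper19)
-/

set_option autoImplicit false
set_option backward.isDefEq.respectTransparency false

universe w₄ v₄ w₃ v₃ w' v' w v u

open CategoryTheory CategoryTheory.Limits Functor AlgebraicGeometry Opposite

namespace Groth.Agent.Helper19.QADiag

open FibCat AlgSt Stk Groth.Agent.Helper19.FibLib Groth.Agent.Helper19.StLib Groth.Agent.Helper19.PshLib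
  Groth.Agent.Helper19.PshSt Groth.Agent.Helper19.DiagLib Groth.Agent.Helper19.ImmLib
  Groth.Agent.Helper19.AlgP Groth.Agent.Helper19.PbRec Groth.Agent.Helper19.SpProps
  Groth.Agent.Helper19.InfLib Groth.Agent.Helper19.DescCover

variable {S : Scheme.{u}}

/-- one chart: the base change of the representing space of `fp t f` along the representing space of
`fp t w`. -/
theorem exists_pullback_of_chart {P : MorphismProperty (AlgSp.Sp S)} (hPb : StableAlg P)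
    (hP : DescAtlas P)
    {𝒳 𝒴 𝒵 : AlgSt.Cat S} (h𝒳 : IsFibGrpd 𝒳.p) (h𝒴 : IsFibGrpd 𝒴.p) (h𝒵 : IsFibGrpd 𝒵.p)
    (f : 𝒳 ⥤ᵇ 𝒴) (w : 𝒵 ⥤ᵇ 𝒴) (h' : RepByAlgSpWith P (fpFst w f))
    (T : Over S) (t : overCat T ⥤ᵇ 𝒴) (A : AlgSp.Space S) (eA : ofSp A.obj ⥤ᵇ fp t f)
    (heA : IsEquivOver eA) (B : AlgSp.Space S) (eB : ofSp B.obj ⥤ᵇ fp t w) (heB : IsEquivOver eB) :
    ∃ (C : AlgSp.Space S) (γ₀ : C.obj ⟶ B.obj) (q : C.obj ⟶ A.obj),
      IsPullback q γ₀ (spMapOfOver (BasedFunctor.comp eA (fpFst t f)))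
        (spMapOfOver (BasedFunctor.comp eB (fpFst t w))) ∧ P γ₀ := by
  let y' : ofSp B.obj ⥤ᵇ 𝒵 := BasedFunctor.comp eB (fpSnd t w)
  have hfp : IsFibGrpd (fp w f).p := Groth.Agent.S6401.result w f h𝒵 h𝒳 h𝒴
  obtain ⟨C, eC, γ₀, heC, ⟨θC⟩, hPγ⟩ := exists_rep_fp_of_space hPb hP hfp h𝒵
    (fpFst w f) h' B y'
  let β : ofSp B.obj ⥤ᵇ overCat T := BasedFunctor.comp eB (fpFst t w)
  let α : ofSp A.obj ⥤ᵇ overCat T := BasedFunctor.comp eA (fpFst t f)
  obtain ⟨gA, hgA, ⟨ηA⟩, ⟨εA⟩⟩ := IsEquivOver.exists_inv heA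
  let θ₁ : BasedFunctor.comp y' w ≅ BasedFunctor.comp β t := whiskerLeftIso eB (fpIso t w).symm
  let τ : BasedFunctor.comp (fpFst t f) (BasedFunctor.id (overCat T)) ≅ BasedFunctor.comp gA α :=
    (whiskerRightIso εA (fpFst t f)).symm
  let σ : BasedFunctor.comp β (BasedFunctor.id (overCat T)) ≅
      BasedFunctor.comp (BasedFunctor.id (ofSp B.obj)) β := Iso.refl _
  let M : fp β (fpFst t f) ⥤ᵇ fp β α :=
    fpMap (BasedFunctor.id (ofSp B.obj)) gA (BasedFunctor.id (overCat T)) σ τ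
  have hM : IsEquivOver M := by
    have h1 : (BasedFunctor.id (overCat T)).toFunctor.Full := inferInstanceAs (𝟭 _).Full
    have h2 : (BasedFunctor.id (overCat T)).toFunctor.Faithful := inferInstanceAs (𝟭 _).Faithful
    exact isEquivOver_fpMap _ _ _ _ _ (isEquivOver_id _) hgA
  let E : ofSp C.obj ⥤ᵇ fp β α :=
    BasedFunctor.comp eC (BasedFunctor.comp (pasteLInv y' w f)
      (BasedFunctor.comp (fpCongrLeft f θ₁) (BasedFunctor.comp (pasteL β t f) M)))
  have hE : IsEquivOver E :=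
    IsEquivOver.comp heC (IsEquivOver.comp (isEquivOver_pasteLInv y' w f)
      (IsEquivOver.comp (isEquivOver_fpCongrLeft f θ₁) (IsEquivOver.comp (isEquivOver_pasteL β t f) hM)))
  have sq := isPullback_of_equiv α β E hE
  have hγ : γMap α β E = γ₀ := by
    apply ObjectProperty.hom_ext
    change pshMapOf (BasedFunctor.comp E (fpFst β α)) = γ₀.hom
    have e1 : BasedFunctor.comp E (fpFst β α) = BasedFunctor.comp eC (fpFst y' (fpFst w f)) := rfl
    rw [e1, pshMapOf_eq_of_iso θC, pshMapOf_ofPshMap]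
  rw [hγ] at sq
  exact ⟨C, γ₀, qMap α β E, sq.flip, hPγ⟩

/-- **Descent along a jointly covering family of fppf functors to the target.** -/
theorem repByAlgSpWith_of_famCover {P : MorphismProperty (AlgSp.Sp S)} (hPb : StableAlg P)
    (hP : AlgSp.IsLocalOnBase AlgSp.IsFppfCover P)
    {𝒳 𝒴 : AlgSt.Cat S} (h𝒳 : IsFibGrpd 𝒳.p) (h𝒴 : IsFibGrpd 𝒴.p)
    (f : 𝒳 ⥤ᵇ 𝒴) (hf : RepByAlgSp1 f) {ι : Type u} (𝒵 : ι → AlgSt.Cat S)
    (h𝒵 : ∀ i, IsFibGrpd (𝒵 i).p) (w : ∀ i, 𝒵 i ⥤ᵇ 𝒴)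
    (hw : ∀ (T : Over S) (t : overCat T ⥤ᵇ 𝒴), ∃ (B : ι → AlgSp.Space S)
      (eB : ∀ i, ofSp (B i).obj ⥤ᵇ fp t (w i)), (∀ i, IsEquivOver (eB i)) ∧
        AlgSp.IsFppfCover (fun i => (B i).obj)
          (fun i => spMapOfOver (BasedFunctor.comp (eB i) (fpFst t (w i)))))
    (h' : ∀ i, RepByAlgSpWith P (fpFst (w i) f)) : RepByAlgSpWith P f := by
  intro T t
  obtain ⟨B, eB, heB, hcov⟩ := hw T t
  obtain ⟨A, eA, heA⟩ := hf T t
  refine ⟨A, eA, heA, ?_⟩
  have key := fun i => exists_pullback_of_chart hPb (descAtlas_of_isLocalOnBase hP) h𝒳 h𝒴 (h𝒵 i) f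
    (w i) (h' i) T t A eA heA (B i) (eB i) (heB i)
  choose C γ₀ q sq hPγ using key
  exact (hP (fun i => (B i).obj) (fun i => spMapOfOver (BasedFunctor.comp (eB i) (fpFst t (w i))))
    (AlgSp.IsAlgSpace.yon_obj T) (fun i => (B i).property) hcov
    (spMapOfOver (BasedFunctor.comp eA (fpFst t f))) A.property (fun i => (C i).obj)
    γ₀ q (fun i => (C i).property) sq).2 hPγ

end Groth.Agent.Helper19.QADiag
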