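import Mathlib
import Groth.Agent.Lib.Helper19.QADiag.Comp3
import Groth.Agent.Lib.Helper19.FpqcAff.QAff2
import Groth.Agent.Lib.Helper19.SpProps
import Groth.Agent.Lib.Helper19.WNA.Sep
import Groth.Agent.Lib.Helper15.ArtAff1
import Groth.Agent.Lib.Helper16.AlgSp.StdRef

/-!
# Quasi-affine morphisms of algebraic spaces: stability, locality, composition rules (helper19)
-/

set_option autoImplicit false
set_option backward.isDefEq.respectTransparency false

universe u

open CategoryTheory CategoryTheory.Limits AlgebraicGeometry Opposite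

namespace Groth.Agent.Helper19.QADiag

open FibCat AlgSt Stk Groth.Agent.Helper19.FibLib Groth.Agent.Helper19.StLib Groth.Agent.Helper19.PshLib
  Groth.Agent.Helper19.PshSt Groth.Agent.Helper19.DiagLib Groth.Agent.Helper19.AlgP
  Groth.Agent.Helper19.FpqcAff

variable {S : Scheme.{u}}

theorem stableAlg_isQuasiAffineMor : StableAlg (S := S) AlgSp.IsQuasiAffineMor := by
  intro X₁ Y₁ X₂ Y₂ _ _ _ _ a b a' b' sq ha
  rw [isQuasiAffineMor_iff_affRep] at ha ⊢
  exact (Groth.Agent.Helper15.AffRep (S := S) SrcQA).of_isPullback sq ha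

theorem isLocalOnBase_fppf_isQuasiAffineMor :
    AlgSp.IsLocalOnBase (AlgSp.IsFppfCover (S := S)) AlgSp.IsQuasiAffineMor :=
  Groth.Agent.Helper19.SpProps.isLocalOnBase_fppf_of_fpqc
    (Groth.Agent.Helper16.AS.isLocalOnBase_fpqc_of_std isLocalOnBase_std_isQuasiAffineMor)

theorem descAtlas_isQuasiAffineMor : DescAtlas (S := S) AlgSp.IsQuasiAffineMor :=
  descAtlas_of_isLocalOnBase isLocalOnBase_fppf_isQuasiAffineMor

/-- quasi-affine followed by affine is quasi-affine. -/
theorem compRule_qa_affine :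
    CompRule (S := S) AlgSp.IsQuasiAffineMor AlgSp.IsAffineMor AlgSp.IsQuasiAffineMor := by
  intro X Y Z _ _ _ a b ha hb T hT g
  obtain ⟨W, i, fst, sq, hW⟩ := hb hT g
  obtain ⟨W', i', fst', sq', hW'⟩ := ha hW fst
  refine ⟨W', i' ≫ i, fst', ?_, hW'⟩
  have := sq'.paste_vert sq
  rwa [← Functor.map_comp] at this

/-- a closed immersion followed by a quasi-affine morphism is quasi-affine. -/
theorem compRule_closedImm_qa :
    CompRule (S := S) (AlgSp.RepWith @IsClosedImmersion) AlgSp.IsQuasiAffineMor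
      AlgSp.IsQuasiAffineMor := by
  intro X Y Z _ _ _ a b ha hb T hT g
  obtain ⟨W, i, fst, sq, hW⟩ := hb hT g
  have hrep := ha.rep
  have sq' := hrep.isPullback fst
  refine ⟨hrep.pullback fst, hrep.snd fst ≫ i, hrep.fst fst, ?_, ?_⟩
  · have := sq'.paste_vert sq
    rwa [← Functor.map_comp] at this
  · haveI : IsClosedImmersion (hrep.snd fst).left := ha.property_snd fst
    haveI : W.left.IsQuasiAffine := hW
    exact Scheme.IsQuasiAffine.of_isAffineHom (hrep.snd fst).left

/-- a functor from the slice of an affine scheme to the base, over an affine base, is affine. -/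
theorem repByAlgSpWith_isAffineMor_to_selfOver [IsAffine S] (U : Over S) (hU : IsAffine U.left)
    (f : overCat U ⥤ᵇ selfOver (Over S)) : RepByAlgSpWith AlgSp.IsAffineMor f := by
  intro T t
  let p₁ : T ⨯ U ⟶ T := prod.fst
  let p₂ : T ⨯ U ⟶ U := prod.snd
  have h : IsPbSec ((AlgSp.yon S).map p₁).hom ((AlgSp.yon S).map p₂).hom
      (toTermPsh ((AlgSp.yon S).obj T).obj) (toTermPsh ((AlgSp.yon S).obj U).obj) := by
    refine ⟨rfl, ?_, ?_⟩
    · rintro ⟨T'⟩ ⟨x⟩ ⟨y⟩ h1 h2
      have e1 : x ≫ p₁ = y ≫ p₁ := congrArg ULift.down h1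
      have e2 : x ≫ p₂ = y ≫ p₂ := congrArg ULift.down h2
      exact congrArg ULift.up (Limits.prod.hom_ext e1 e2)
    · rintro ⟨T'⟩ ⟨a⟩ ⟨b⟩ -
      exact ⟨⟨prod.lift a b⟩, congrArg ULift.up (prod.lift_fst a b),
        congrArg ULift.up (prod.lift_snd a b)⟩
  have hfull := toSelf_ofPsh_full (termPsh.{u + 1} (Over S))
    (fun T => inferInstanceAs (Subsingleton PUnit))
  have hfaith := toSelf_ofPsh_faithful (termPsh.{u + 1} (Over S))
  have hE := isEquivOver_pbFunctor_fpMap h (toOverCat T) (isEquivOver_toOverCat T) (toOverCat U)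
    (isEquivOver_toOverCat U) (toSelf (ofPsh (termPsh.{u + 1} (Over S)))) t f
    (selfOverIso _ _) (selfOverIso _ _)
  refine ⟨⟨(AlgSp.yon S).obj (T ⨯ U), AlgSp.IsAlgSpace.yon_obj _⟩, _, hE, ?_⟩
  have e1 : spMapOfOver (BasedFunctor.comp (BasedFunctor.comp (pbFunctor h.w)
      (fpMap (toOverCat T) (toOverCat U) (toSelf (ofPsh (termPsh.{u + 1} (Over S))))
        (selfOverIso _ _) (selfOverIso _ _))) (fpFst t f)) =
      spMapOfOver (BasedFunctor.comp (ofSpMap ((AlgSp.yon S).map p₁)) (toOverCat T)) := rfl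
  rw [e1]
  have e2 : spMapOfOver (BasedFunctor.comp (ofSpMap ((AlgSp.yon S).map p₁)) (toOverCat T)) =
      (AlgSp.yon S).map p₁ :=
    spMapOfOver_ofPshMap_toOverCat (F' := (AlgSp.yon S).obj (T ⨯ U)) ((AlgSp.yon S).map p₁).hom
  rw [e2]
  apply Groth.Agent.Helper15.ArtAff.isAffineMor_of_repWith
  rw [AlgSp.repWith_yon_map_iff]
  have e3 : p₁.left = (Over.prodLeftIsoPullback T U).hom ≫ pullback.fst T.hom U.hom :=
    (Over.prodLeftIsoPullback_hom_fst T U).symm
  rw [e3]
  haveI : IsAffine U.left := hU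
  haveI : IsAffineHom U.hom := isAffineHom_of_isAffine U.hom
  haveI : IsAffineHom (pullback.fst T.hom U.hom) :=
    MorphismProperty.pullback_fst (P := @IsAffineHom) _ _ inferInstance
  exact MorphismProperty.comp_mem (W := @IsAffineHom) _ _ inferInstance inferInstance

end Groth.Agent.Helper19.QADiag
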