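import Mathlib
import Groth.Agent.Lib.Helper19.ProdCover
import Groth.Agent.Lib.Helper19.StPtsOpen
import Groth.Agent.Lib.Helper19.StPts3

/-!
# Jointly surjective families of functors and fppf coverings (helper19)
-/

set_option autoImplicit false
set_option backward.isDefEq.respectTransparency false

universe u

open CategoryTheory CategoryTheory.Limits Functor AlgebraicGeometry Opposite

namespace Groth.Agent.Helper19.QADiag

open FibCat AlgSt Stk Groth.Agent.Helper19.FibLib Groth.Agent.Helper19.StLib Groth.Agent.Helper19.PshLib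
  Groth.Agent.Helper19.PshSt Groth.Agent.Helper19.ChartOver Groth.Agent.Helper19.StPts
  Groth.Agent.Helper19.ProdCover

variable {S : Scheme.{u}}

/-- a jointly surjective family of flat, locally finitely presented functors gives fppf coverings of
every scheme mapping to the target. -/
theorem famCover_of_jointly_surjective {𝒴 : AlgSt.Cat S} (h𝒴 : IsFibGrpd 𝒴.p) {ι : Type u}
    (𝒵 : ι → AlgSt.Cat S) (h𝒵 : ∀ i, IsFibGrpd (𝒵 i).p) (w : ∀ i, 𝒵 i ⥤ᵇ 𝒴)
    (hfl : ∀ i, RepByAlgSpWith (AlgSp.LocP @Flat ⊓ AlgSp.LocP @LocallyOfFinitePresentation) (w i))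
    (hs : ∀ y : Points 𝒴, ∃ i x, Points.map (w i) x = y) (T : Over S) (t : overCat T ⥤ᵇ 𝒴) :
    ∃ (B : ι → AlgSp.Space S) (eB : ∀ i, ofSp (B i).obj ⥤ᵇ fp t (w i)), (∀ i, IsEquivOver (eB i)) ∧
      AlgSp.IsFppfCover (fun i => (B i).obj)
        (fun i => spMapOfOver (BasedFunctor.comp (eB i) (fpFst t (w i)))) := by
  have key := fun i => hfl i T t
  choose B eB heB hP using key
  refine ⟨B, eB, heB, fun i => ⟨(hP i).1, (hP i).2⟩, fun y => ?_⟩
  obtain ⟨i, x, hx⟩ := hs (Points.map t (spPt T y))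
  obtain ⟨wpt, hw1, -⟩ := exists_points_fp_of_map_eq (h𝒵 i) h𝒴 (isFibGrpd_overCat T) (w i) t
    (spPt T y) x hx.symm
  refine ⟨i, (kappa (B i) (eB i) (heB i)).symm wpt, ?_⟩
  apply (spPt T).injective
  rw [← map_kappa (B i) (eB i) (heB i) (fpFst t (w i)), Homeomorph.apply_symm_apply, hw1]

/-- products of jointly surjective families are jointly surjective. -/
theorem jointly_surjective_cmpProd {𝒵 𝒯 : AlgSt.Cat S} (h𝒵 : IsFibGrpd 𝒵.p) (h𝒯 : IsFibGrpd 𝒯.p)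
    (t : 𝒵 ⥤ᵇ 𝒯) {ι κ : Type*} (𝒳 : ι → AlgSt.Cat S) (h𝒳 : ∀ i, IsFibGrpd (𝒳 i).p)
    (f : ∀ i, 𝒳 i ⥤ᵇ 𝒵) (𝒴 : κ → AlgSt.Cat S) (h𝒴 : ∀ j, IsFibGrpd (𝒴 j).p) (g : ∀ j, 𝒴 j ⥤ᵇ 𝒵)
    (hf : ∀ z : Points 𝒵, ∃ i x, Points.map (f i) x = z)
    (hg : ∀ z : Points 𝒵, ∃ j x, Points.map (g j) x = z) (y : Points (fp t t)) :
    ∃ i j q, Points.map (cmpProd (f i) (g j) t) q = y := by
  have hftt : IsFibGrpd (fp t t).p := Groth.Agent.S6401.result t t h𝒵 h𝒵 h𝒯
  obtain ⟨j, v', hv'⟩ := hg (Points.map (fpSnd t t) y)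
  obtain ⟨w, hw, -⟩ := exists_points_fp_of_map_eq (h𝒴 j) h𝒵 hftt (g j) (fpSnd t t) y v' hv'.symm
  have hfib2 : IsFibGrpd (fp t (BasedFunctor.comp (g j) t)).p :=
    Groth.Agent.S6401.result _ _ h𝒵 (h𝒴 j) h𝒯
  let y₂ := (mapHomeo (pasteR t t (g j)) (isEquivOver_pasteR t t (g j))).symm w
  have hy₂ : Points.map (step2 (g j) t) y₂ = y := by
    rw [step2, map_comp, ← mapHomeo_apply (pasteR t t (g j)) (isEquivOver_pasteR t t (g j)),
      Homeomorph.apply_symm_apply, hw]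
  obtain ⟨i, v, hv⟩ := hf (Points.map (fpFst t (BasedFunctor.comp (g j) t)) y₂)
  obtain ⟨w', -, hw'⟩ := exists_points_fp_of_map_eq hfib2 h𝒵 (h𝒳 i)
    (fpFst t (BasedFunctor.comp (g j) t)) (f i) v y₂ hv
  let q := (mapHomeo (pasteL (f i) t (BasedFunctor.comp (g j) t))
    (isEquivOver_pasteL (f i) t (BasedFunctor.comp (g j) t))).symm w'
  refine ⟨i, j, q, ?_⟩
  rw [map_congr (cmpProdIso (f i) (g j) t), map_comp, step1, map_comp,
    ← mapHomeo_apply (pasteL (f i) t (BasedFunctor.comp (g j) t))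
      (isEquivOver_pasteL (f i) t (BasedFunctor.comp (g j) t)),
    Homeomorph.apply_symm_apply, hw', hy₂]

end Groth.Agent.Helper19.QADiag
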