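import Mathlib
import Groth.Agent.Lib.Helper19.QADiag.Props
import Groth.Agent.Lib.Helper19.QADiag.FamCover
import Groth.Agent.Lib.Helper19.QADiag.Surj
import Groth.Agent.Lib.Helper19.ClDesc.Main
import Groth.Agent.Lib.Helper19.StPtsQc

/-!
# Quasi-affine diagonal and smooth charts which are quasi-affine on affine opens (helper19)
-/

set_option autoImplicit false
set_option backward.isDefEq.respectTransparency false

universe v₂ u₂ v₃ u₃ v₄ u₄ v₅ u₅ u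

open CategoryTheory CategoryTheory.Limits Functor AlgebraicGeometry Opposite

namespace Groth.Agent.Helper19.QADiag

open FibCat AlgSt Stk Groth.Agent.Helper19.FibLib Groth.Agent.Helper19.StLib Groth.Agent.Helper19.PshLib
  Groth.Agent.Helper19.PshSt Groth.Agent.Helper19.ChartOver Groth.Agent.Helper19.StPts
  Groth.Agent.Helper19.ProdCover Groth.Agent.Helper19.AlgP Groth.Agent.Helper19.DescCover
  Groth.Agent.Helper19.SpProps Groth.Agent.Helper19.CancelLib Groth.Agent.Helper19.DiagComp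
  Groth.Agent.Helper19.DiagRep Groth.Agent.Helper16.AS

variable {S : Scheme.{u}}

/-- flat and locally of finite presentation. -/
abbrev flP : MorphismProperty (AlgSp.Sp S) :=
  AlgSp.LocP @Flat ⊓ AlgSp.LocP @LocallyOfFinitePresentation

theorem stableAlg_flP : StableAlg (S := S) flP :=
  stableAlg_inf (stableAlg_locP Groth.Agent.Helper15.goodP_flat srcEtLoc_flat)
    (stableAlg_locP Groth.Agent.Helper15.goodP_lfp srcEtLoc_lfp)

theorem compAlg_flP : CompAlg (S := S) flP :=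
  compAlg_inf (compAlg_locP Groth.Agent.Helper15.goodP_flat srcEtLoc_flat)
    (compAlg_locP Groth.Agent.Helper15.goodP_lfp srcEtLoc_lfp)

theorem descAtlas_flP : DescAtlas (S := S) flP :=
  descAtlas_inf (descAtlas_of_fpqc (isLocalOnBase_fpqc_of_std isLocalOnBase_std_locP_flat))
    (descAtlas_of_fpqc isLocalOnBase_fpqc_locP_lfp)

theorem flP_of_smooth {𝒳 𝒴 : AlgSt.Cat S} (f : 𝒳 ⥤ᵇ 𝒴)
    (hf : RepByAlgSpWith (AlgSp.LocP @Smooth) f) : RepByAlgSpWith flP f := by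
  refine repByAlgSpWith_mono (fun A T a h => ⟨?_, ?_⟩) hf
  · refine Groth.Agent.Helper15.locP_mono ?_ h
    intro X Y g hg
    haveI : Smooth g := hg
    exact (inferInstance : Flat g)
  · refine Groth.Agent.Helper15.locP_mono ?_ h
    intro X Y g hg
    haveI : Smooth g := hg
    exact (inferInstance : LocallyOfFinitePresentation g)

section general

variable {C : Type*} [Category C] {𝒳 : BasedCategory.{v₂, u₂} C} {𝒴 : BasedCategory.{v₃, u₃} C}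
  {𝒵 : BasedCategory.{v₄, u₄} C} {𝒯 : BasedCategory.{v₅, u₅} C}
  (f : 𝒳 ⥤ᵇ 𝒵) (g : 𝒴 ⥤ᵇ 𝒵) (t : 𝒵 ⥤ᵇ 𝒯)

/-- the 2-isomorphism used to compare `𝒳 ×_𝒵 𝒴` with `𝒳 ×_𝒯 𝒴`. -/
def cmpE2 : BasedFunctor.comp (fpFst f g) (BasedFunctor.comp f t) ≅
    BasedFunctor.comp (fpSnd f g) (BasedFunctor.comp g t) :=
  whiskerRightIso (fpIso f g) t

theorem cmpE2_app (x : (fp f g).obj) : (cmpE2 f g t).hom.toNatTrans.app x = t.map x.obj.iso.hom := rfl

end general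

/-- **(⟹)** if the diagonal is quasi-affine then every functor from an affine scheme (over an affine
base) is quasi-affine. -/
theorem qa_of_affine [IsAffine S] (𝒳 : AlgSt.Cat S) (h𝒳 : IsFibGrpd 𝒳.p)
    (hΔ : RepByAlgSpWith AlgSp.IsQuasiAffineMor (FibCat.diag (toSelf 𝒳))) (V : Over S)
    (hV : IsAffine V.left) (a : overCat V ⥤ᵇ 𝒳) : RepByAlgSpWith AlgSp.IsQuasiAffineMor a :=
  repByAlgSpWith_of_comp3 stableAlg_isQuasiAffineMor descAtlas_isQuasiAffineMor compRule_qa_affine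
    (isFibGrpd_overCat V) h𝒳 (isFibGrpd_selfOver (Over S)) a (toSelf 𝒳)
    (repByAlgSpWith_isAffineMor_to_selfOver V hV _) hΔ

/-- the comparison `V ×_𝒳 V' ⟶ V ×_S V'` is quasi-affine when `V' ⟶ 𝒳` is quasi-affine and `V' ⟶ S` is
separated. -/
theorem qa_cmpI (𝒳 : AlgSt.Cat S) (h𝒳 : IsFibGrpd 𝒳.p) (V V' : Over S) (hV' : IsSeparated V'.hom)
    (a : overCat V ⥤ᵇ 𝒳) (a' : overCat V' ⥤ᵇ 𝒳)
    (ha' : RepByAlgSpWith AlgSp.IsQuasiAffineMor a') :
    RepByAlgSpWith AlgSp.IsQuasiAffineMor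
      (cmpI a a' (toSelf 𝒳) (cmpE2 a a' (toSelf 𝒳))) := by
  have hsep : RepByAlgSpWith AlgSp.IsSeparatedMor (BasedFunctor.comp a' (toSelf 𝒳)) :=
    Groth.Agent.Helper19.WNA.repByAlgSpWith_isSeparatedMor_to_selfOver V' hV' _
  have hcl : RepByAlgSpWith (AlgSp.RepWith @IsClosedImmersion)
      (FibCat.diag (BasedFunctor.comp a' (toSelf 𝒳))) :=
    repByAlgSpWith_diag_of sectionEqOf_separated _ hsep
  have hΔb : RepByAlgSpWith (AlgSp.RepWith @IsClosedImmersion)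
      (FibCat.diag (fpFst (BasedFunctor.comp a (toSelf 𝒳)) (BasedFunctor.comp a' (toSelf 𝒳)))) :=
    repByAlgSpWith_diag_fpFst _ _ hcl
  have hab : RepByAlgSpWith AlgSp.IsQuasiAffineMor
      (BasedFunctor.comp (cmpI a a' (toSelf 𝒳) (cmpE2 a a' (toSelf 𝒳)))
        (fpFst (BasedFunctor.comp a (toSelf 𝒳)) (BasedFunctor.comp a' (toSelf 𝒳)))) := by
    have e : BasedFunctor.comp (cmpI a a' (toSelf 𝒳) (cmpE2 a a' (toSelf 𝒳)))
        (fpFst (BasedFunctor.comp a (toSelf 𝒳)) (BasedFunctor.comp a' (toSelf 𝒳))) = fpFst a a' := rfl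
    rw [e]
    exact repByAlgSpWith_fpFst a' a ha'
  have hfib1 : IsFibGrpd (fp a a').p :=
    Groth.Agent.S6401.result a a' (isFibGrpd_overCat V) (isFibGrpd_overCat V') h𝒳
  have hfib2 : IsFibGrpd (fp (BasedFunctor.comp a (toSelf 𝒳)) (BasedFunctor.comp a' (toSelf 𝒳))).p :=
    Groth.Agent.S6401.result _ _ (isFibGrpd_overCat V) (isFibGrpd_overCat V')
      (isFibGrpd_selfOver (Over S))
  exact repByAlgSpWith_of_comp3 Groth.Agent.Helper19.ClDesc.stableAlg_closedImm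
    Groth.Agent.Helper19.ClDesc.descAtlas_closedImm compRule_closedImm_qa hfib1 hfib2
    (isFibGrpd_overCat V) _ _ hab hΔb

/-- **(⟸)** -/
theorem qa_diag_of_charts (𝒳 : AlgSt.Cat S) (h𝒳 : IsAlgStack Scheme.fppfPrecoverage 𝒳)
    {ι : Type u} (V : ι → Over S) (hV : ∀ i, IsSeparated (V i).hom) (a : ∀ i, overCat (V i) ⥤ᵇ 𝒳)
    (hsm : ∀ i, RepByAlgSpWith (AlgSp.LocP @Smooth) (a i))
    (hqa : ∀ i, RepByAlgSpWith AlgSp.IsQuasiAffineMor (a i))
    (hjs : ∀ z : Points 𝒳, ∃ i v, Points.map (a i) v = z) :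
    RepByAlgSpWith AlgSp.IsQuasiAffineMor (FibCat.diag (toSelf 𝒳)) := by
  have hf𝒳 : IsFibGrpd 𝒳.p := h𝒳.isStack.1
  have hself : IsFibGrpd (selfOver (Over S)).p := isFibGrpd_selfOver (Over S)
  have hftt : IsFibGrpd (fp (toSelf 𝒳) (toSelf 𝒳)).p :=
    Groth.Agent.S6401.result _ _ hf𝒳 hf𝒳 hself
  have hfl : ∀ i, RepByAlgSpWith flP (a i) := fun i => flP_of_smooth _ (hsm i)
  let 𝒵 : ι × ι → AlgSt.Cat S := fun p =>
    fp (BasedFunctor.comp (a p.1) (toSelf 𝒳)) (BasedFunctor.comp (a p.2) (toSelf 𝒳))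
  have h𝒵 : ∀ p, IsFibGrpd (𝒵 p).p := fun p =>
    Groth.Agent.S6401.result _ _ (isFibGrpd_overCat _) (isFibGrpd_overCat _) hself
  let w : ∀ p, 𝒵 p ⥤ᵇ fp (toSelf 𝒳) (toSelf 𝒳) := fun p => cmpProd (a p.1) (a p.2) (toSelf 𝒳)
  have hflw : ∀ p, RepByAlgSpWith flP (w p) := fun p =>
    repByAlgSpWith_cmpProd stableAlg_flP compAlg_flP descAtlas_flP (isFibGrpd_overCat _)
      (isFibGrpd_overCat _) hf𝒳 hself _ _ _ (hfl p.1) (hfl p.2)
  have hsw : ∀ y : Points (fp (toSelf 𝒳) (toSelf 𝒳)), ∃ p x, Points.map (w p) x = y := by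
    intro y
    obtain ⟨i, j, q, hq⟩ := jointly_surjective_cmpProd hf𝒳 hself (toSelf 𝒳)
      (fun i => overCat (V i)) (fun i => isFibGrpd_overCat _) a
      (fun i => overCat (V i)) (fun i => isFibGrpd_overCat _) a hjs hjs y
    exact ⟨(i, j), q, hq⟩
  have hw := famCover_of_jointly_surjective hftt 𝒵 h𝒵 w hflw hsw
  refine repByAlgSpWith_of_famCover stableAlg_isQuasiAffineMor isLocalOnBase_fppf_isQuasiAffineMor
    hf𝒳 hftt _ h𝒳.diag 𝒵 h𝒵 w hw (fun p => ?_)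
  have hI := qa_cmpI 𝒳 hf𝒳 (V p.1) (V p.2) (hV p.2) (a p.1) (a p.2) (hqa p.2)
  exact (repByAlgSpWith_equiv_comp
    (cmpΦ (a p.1) (a p.2) (toSelf 𝒳) (cmpE2 (a p.1) (a p.2) (toSelf 𝒳))
      (cmpE2_app (a p.1) (a p.2) (toSelf 𝒳)))
    (isEquivOver_cmpΦ (a p.1) (a p.2) (toSelf 𝒳) (cmpE2 (a p.1) (a p.2) (toSelf 𝒳))
      (cmpE2_app (a p.1) (a p.2) (toSelf 𝒳))) _).1 hI

/-- the restrictions of a surjective chart to the affine opens are jointly surjective. -/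
theorem jointly_surjective_affineOpens (𝒳 : AlgSt.Cat S) (h𝒳 : IsFibGrpd 𝒳.p) (U : Over S)
    (x : overCat U ⥤ᵇ 𝒳) (hsurj : RepByAlgSpWith AlgSp.IsSurjectiveMor x) (z : Points 𝒳) :
    ∃ (V : {V : U.left.Opens // IsAffineOpen V})
      (v : Points (overCat (Over.mk (V.1.ι ≫ U.hom)))),
      Points.map (BasedFunctor.comp
        (overMap (Over.homMk V.1.ι rfl : Over.mk (V.1.ι ≫ U.hom) ⟶ U)) x) v = z := by
  obtain ⟨u₀, hu₀⟩ := surjective_ofChart_of_surjective h𝒳 U x hsurj z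
  obtain ⟨_, ⟨V, hVa, rfl⟩, hmem, -⟩ :=
    U.left.isBasis_affineOpens.exists_subset_of_mem_open (Set.mem_univ u₀) isOpen_univ
  obtain ⟨s, hs⟩ : u₀ ∈ Set.range (Scheme.Opens.ι V) := by
    rw [Scheme.Opens.range_ι]
    exact hmem
  refine ⟨⟨V, hVa⟩, chartPt _ s, ?_⟩
  rw [← ofChart_eq, ofChart_overMap]
  change Points.ofChart x (Scheme.Opens.ι V s) = z
  rw [hs, hu₀]

/-- S16858. -/
theorem main (S : Scheme.{u}) [IsAffine S] (𝒳 : AlgSt.Cat S)
    (h𝒳 : AlgSt.IsAlgStack Scheme.fppfPrecoverage 𝒳) :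
    AlgSt.RepByAlgSpWith AlgSp.IsQuasiAffineMor (FibCat.diag (FibCat.toSelf 𝒳)) ↔
      ∃ (U : Over S) (x : FibCat.overCat U ⥤ᵇ 𝒳),
        AlgSt.RepByAlgSpWith (AlgSp.LocP @Smooth) x ∧ AlgSt.RepByAlgSpWith AlgSp.IsSurjectiveMor x ∧
          ∀ (V : U.left.Opens), IsAffineOpen V →
            AlgSt.RepByAlgSpWith AlgSp.IsQuasiAffineMor
              (BasedFunctor.comp (AlgSt.overMap (Over.homMk V.ι rfl : Over.mk (V.ι ≫ U.hom) ⟶ U)) x) := by
  constructor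
  · intro hΔ
    obtain ⟨U, x, hx₁, hx₂⟩ := h𝒳.atlas
    refine ⟨U, x, hx₁, hx₂, fun V hV => ?_⟩
    exact qa_of_affine 𝒳 h𝒳.isStack.1 hΔ (Over.mk (V.ι ≫ U.hom)) hV _
  · rintro ⟨U, x, hx₁, hx₂, hqa⟩
    refine qa_diag_of_charts 𝒳 h𝒳 (ι := {V : U.left.Opens // IsAffineOpen V})
      (fun V => Over.mk (V.1.ι ≫ U.hom)) (fun V => ?_)
      (fun V => BasedFunctor.comp (overMap (Over.homMk V.1.ι rfl : Over.mk (V.1.ι ≫ U.hom) ⟶ U)) x)
      (fun V => ?_) (fun V => hqa V.1 V.2)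
      (fun z => jointly_surjective_affineOpens 𝒳 h𝒳.isStack.1 U x hx₂ z)
    · haveI : IsAffine (Over.mk (V.1.ι ≫ U.hom)).left := V.2
      haveI : IsAffineHom (Over.mk (V.1.ι ≫ U.hom)).hom := isAffineHom_of_isAffine _
      infer_instance
    · refine smooth_overMap_comp x hx₁ _ ?_
      change Etale V.1.ι
      infer_instance

end Groth.Agent.Helper19.QADiag
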